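import Cfsg.Agent.H539.Lim.Defs

/-!
# Comparison of coefficient systems with modules, change of group (helper234, S5242 F4)
-/

set_option autoImplicit false
set_option linter.unusedVariables false

namespace Cfsg.Agent.H234.Lim

open MulAction Cfsg.Agent.H539.Lim

universe u v w

section

variable {G : Type u} [Group G] {Ω : Type v} [MulAction G Ω]

theorem st_smul (g : G) {k : ℕ} (x : Fin k → Ω) : st G (g • x) = cj g (st G x) := by
  ext u
  rw [MulAction.mem_stabilizer_iff, Subgroup.mem_map]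
  constructor
  · intro h
    refine ⟨g⁻¹ * u * g, ?_, ?_⟩
    · rw [MulAction.mem_stabilizer_iff, mul_smul, mul_smul, h, inv_smul_smul]
    · simp [mul_assoc]
  · rintro ⟨w, hw, rfl⟩
    rw [MulAction.mem_stabilizer_iff] at hw
    simp only [MulEquiv.toMonoidHom_eq_coe, MonoidHom.coe_coe, MulAut.conj_apply]
    rw [mul_smul, mul_smul, inv_smul_smul, hw]

theorem mem_smul {V : Set (Subgroup G)} (hVi : IsInv V) (g : G) {k : ℕ} {x : Fin k → Ω} :
    st G (g • x) ∈ V ↔ st G x ∈ V := by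
  constructor
  · intro h
    have := hVi g⁻¹ _ h
    rw [← st_smul, inv_smul_smul] at this
    exact this
  · intro h
    rw [st_smul]
    exact hVi g _ h

theorem tau_congr (C : Coef.{u, w} G) {g g' : G} (hg : g = g') (P Q : Subgroup G) (h : ∀ u ∈ P, g * u * g⁻¹ ∈ Q)
    (h' : ∀ u ∈ P, g' * u * g'⁻¹ ∈ Q) (m : C.M Q) : C.τ g P Q h m = C.τ g' P Q h' m := by
  subst hg
  rfl

theorem Coef.van_of_mod (C : Coef.{u, w} G) {D : Type w} [AddCommGroup D] [DistribMulAction G D] {V : Set (Subgroup G)}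
    (hV : V.OrdConnected) (hVi : IsInv V) (e : ∀ P ∈ V, C.M P ≃+ ↥(DFix P D))
    (hnat : ∀ (g : G) (P Q : Subgroup G) (h : ∀ u ∈ P, g * u * g⁻¹ ∈ Q) (hP : P ∈ V) (hQ : Q ∈ V) (m : C.M Q),
      ((e P hP (C.τ g P Q h m) : ↥(DFix P D)) : D) = g⁻¹ • ((e Q hQ m : ↥(DFix Q D)) : D)) {n : ℕ}
    (h : Van G Ω D V n) : C.Van Ω V n := by
  classical
  let F : ∀ {k : ℕ} (_ : ∀ x : Fin k → Ω, C.M (st G x)), (Fin k → Ω) → D :=
    fun c x => if hx : st G x ∈ V then ((e _ hx (c x) : ↥(DFix (st G x) D)) : D) else 0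
  have F_pos : ∀ {k : ℕ} (c : ∀ x : Fin k → Ω, C.M (st G x)) (x : Fin k → Ω) (hx : st G x ∈ V),
      F c x = ((e _ hx (c x) : ↥(DFix (st G x) D)) : D) := fun c x hx => dif_pos hx
  have F_neg : ∀ {k : ℕ} (c : ∀ x : Fin k → Ω, C.M (st G x)) (x : Fin k → Ω) (_ : st G x ∉ V),
      F c x = 0 := fun c x hx => dif_neg hx
  -- coboundaries
  have Fdd : ∀ {k : ℕ} (c : ∀ x : Fin k → Ω, C.M (st G x)), (∀ x, st G x ∉ V → c x = 0) →
      ∀ (x : Fin (k + 1) → Ω) (hx : st G x ∈ V), ((e _ hx (C.dd c x) : ↥(DFix (st G x) D)) : D) = dd (F c) x := by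
    intro k c hc x hx
    unfold Coef.dd dd
    rw [map_sum, AddSubgroup.val_finsetSum]
    refine Finset.sum_congr rfl fun i _ => ?_
    rw [map_zsmul, AddSubgroup.coe_zsmul]
    congr 1
    by_cases hy : st G (fun j => x (i.succAbove j)) ∈ V
    · rw [F_pos _ _ hy]
      have := hnat 1 _ _ (fun u hu => by simpa using Coef.st_succAbove_le G x i hu) hx hy
        (c (fun j => x (i.succAbove j)))
      refine this.trans ?_
      have h5 : ∀ d : D, (1 : G)⁻¹ • d = d := fun d => by rw [inv_one, one_smul]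
      exact h5 _
    · rw [F_neg _ _ hy, hc _ hy, map_zero, map_zero, AddSubgroup.coe_zero]
  have Fcoch : ∀ {k : ℕ} (c : ∀ x : Fin k → Ω, C.M (st G x)), C.IsCoch V c → IsCoch V (F c) := by
    intro k c hc
    refine ⟨fun g x => ?_, fun x hx => F_neg c x hx⟩
    by_cases hx : st G x ∈ V
    · have hgx : st G (g • x) ∈ V := (mem_smul hVi g).2 hx
      rw [F_pos _ _ hx, F_pos _ _ hgx]
      have := hnat g _ _ (Coef.conj_st G g x) hx hgx (c (g • x))
      rw [hc.equiv g x] at this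
      rw [this, smul_inv_smul]
    · rw [F_neg _ _ hx, F_neg _ _ (fun h => hx ((mem_smul hVi g).1 h)), smul_zero]
  have Fcoc : ∀ {k : ℕ} (c : ∀ x : Fin k → Ω, C.M (st G x)), (∀ x, st G x ∉ V → c x = 0) → C.IsCoc V c →
      IsCoc (G := G) V (F c) := by
    intro k c hc hcc x hx
    rw [← Fdd c hc x hx, hcc x hx, map_zero, AddSubgroup.coe_zero]
  cases n with
  | zero =>
    intro c hc hcc x
    by_cases hx : st G x ∈ V
    · have := h (F c) (Fcoch c hc) (Fcoc c hc.supp hcc) x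
      rw [F_pos _ _ hx] at this
      have h2 : e _ hx (c x) = 0 := Subtype.ext this
      exact (map_eq_zero_iff _ (e _ hx).injective).1 h2
    · exact hc.supp x hx
  | succ n =>
    intro c hc hcc
    obtain ⟨b', hb', hcb⟩ := h (F c) (Fcoch c hc) (Fcoc c hc.supp hcc)
    have hfix : ∀ x : Fin (n + 1) → Ω, b' x ∈ DFix (st G x) D := by
      intro x u hu
      rw [← hb'.smul u x, MulAction.mem_stabilizer_iff.1 hu]
    let b : ∀ x : Fin (n + 1) → Ω, C.M (st G x) := fun x =>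
      if hx : st G x ∈ V then (e _ hx).symm ⟨b' x, hfix x⟩ else 0
    have b_pos : ∀ x (hx : st G x ∈ V), b x = (e _ hx).symm ⟨b' x, hfix x⟩ := fun x hx => dif_pos hx
    have b_neg : ∀ x, st G x ∉ V → b x = 0 := fun x hx => dif_neg hx
    have hFb : F b = b' := by
      funext x
      by_cases hx : st G x ∈ V
      · rw [F_pos _ _ hx, b_pos x hx, AddEquiv.apply_symm_apply]
      · rw [F_neg _ _ hx, hb'.supp x hx]
    refine ⟨b, ⟨fun g x => ?_, b_neg⟩, fun x hx => ?_⟩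
    · by_cases hx : st G x ∈ V
      · have hgx : st G (g • x) ∈ V := (mem_smul hVi g).2 hx
        apply (e _ hx).injective
        apply Subtype.ext
        rw [hnat g _ _ (Coef.conj_st G g x) hx hgx, b_pos _ hgx, b_pos _ hx, AddEquiv.apply_symm_apply,
          AddEquiv.apply_symm_apply]
        show g⁻¹ • b' (g • x) = b' x
        rw [hb'.smul, inv_smul_smul]
      · rw [b_neg x hx, b_neg _ (fun h => hx ((mem_smul hVi g).1 h)), map_zero]
    · apply (e _ hx).injective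
      apply Subtype.ext
      rw [Fdd b b_neg x hx, hFb, ← hcb x hx, F_pos _ _ hx]

end

section

variable {G : Type u} [Group G] {Ω : Type v} [MulAction G Ω] (C : Coef.{u, w} G)

theorem map_st {H : Type u} [Group H] [MulAction H Ω] (φ : G →* H) (hφ : Function.Surjective φ)
    (hΩ : ∀ (g : G) (x : Ω), g • x = φ g • x) {k : ℕ} (x : Fin k → Ω) : (st G x).map φ = st H x := by
  have hx : ∀ g : G, g • x = φ g • x := fun g => funext fun j => hΩ g (x j)
  ext u
  rw [Subgroup.mem_map, MulAction.mem_stabilizer_iff]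
  constructor
  · rintro ⟨g, hg, rfl⟩
    rw [← hx]
    exact hg
  · intro hu
    obtain ⟨g, rfl⟩ := hφ u
    exact ⟨g, (hx g).trans hu, rfl⟩

theorem Coef.van_of_surj {H : Type u} [Group H] [MulAction H Ω] (φ : G →* H) (hφ : Function.Surjective φ)
    (hΩ : ∀ (g : G) (x : Ω), g • x = φ g • x) (C' : Coef.{u, w} H) {V : Set (Subgroup G)}
    {V' : Set (Subgroup H)} (hV : V.OrdConnected) (hVi : IsInv V)
    (hVV : ∀ P : Subgroup G, φ.ker ≤ P → (P ∈ V ↔ P.map φ ∈ V'))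
    (e : ∀ P ∈ V, C.M P ≃+ C'.M (P.map φ))
    (hnat : ∀ (g : G) (P Q : Subgroup G) (h : ∀ u ∈ P, g * u * g⁻¹ ∈ Q) (h' : ∀ u ∈ P.map φ,
      φ g * u * (φ g)⁻¹ ∈ Q.map φ) (hP : P ∈ V) (hQ : Q ∈ V) (m : C.M Q),
      e P hP (C.τ g P Q h m) = C'.τ (φ g) (P.map φ) (Q.map φ) h' (e Q hQ m)) {n : ℕ}
    (h : C'.Van Ω V' n) : C.Van Ω V n := by
  classical
  have hker : ∀ {k : ℕ} (x : Fin k → Ω), φ.ker ≤ st G x := by
    intro k x g hg
    rw [MulAction.mem_stabilizer_iff]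
    funext j
    show g • x j = x j
    rw [hΩ, MonoidHom.mem_ker.1 hg, one_smul]
  have hst : ∀ {k : ℕ} (x : Fin k → Ω), (st G x).map φ = st H x := fun x => map_st φ hφ hΩ x
  have hmem : ∀ {k : ℕ} (x : Fin k → Ω), st G x ∈ V ↔ st H x ∈ V' := by
    intro k x
    rw [hVV _ (hker x), hst]
  have hgx : ∀ {k : ℕ} (g : G) (x : Fin k → Ω), φ g • x = g • x := fun g x => funext fun j => (hΩ g (x j)).symm
  -- the transports
  have hT : ∀ {k : ℕ} (x : Fin k → Ω), ∀ u ∈ st H x, 1 * u * 1⁻¹ ∈ (st G x).map φ := by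
    intro k x u hu
    rw [hst]
    simpa using hu
  have hT' : ∀ {k : ℕ} (x : Fin k → Ω), ∀ u ∈ (st G x).map φ, 1 * u * 1⁻¹ ∈ st H x := by
    intro k x u hu
    rw [hst] at hu
    simpa using hu
  let T : ∀ {k : ℕ} (x : Fin k → Ω), C'.M ((st G x).map φ) →+ C'.M (st H x) := fun x =>
    C'.τ 1 (st H x) ((st G x).map φ) (hT x)
  let T' : ∀ {k : ℕ} (x : Fin k → Ω), C'.M (st H x) →+ C'.M ((st G x).map φ) := fun x =>
    C'.τ 1 ((st G x).map φ) (st H x) (hT' x)
  have hτ1 : ∀ (P : Subgroup H) (h1 : ∀ u ∈ P, (1 * 1 : H) * u * (1 * 1 : H)⁻¹ ∈ P) (m : C'.M P),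
      C'.τ (1 * 1) P P h1 m = m := by
    intro P h1 m
    exact C'.τ_inner P (1 * 1) (by simp) h1 m
  have hTT' : ∀ {k : ℕ} (x : Fin k → Ω) m, T x (T' x m) = m := by
    intro k x m
    show C'.τ 1 _ _ _ (C'.τ 1 _ _ _ m) = m
    rw [C'.τ_comp 1 1 _ _ _ (hT x) (hT' x) (fun u hu => by simpa using hu) m, hτ1]
  have hT'T : ∀ {k : ℕ} (x : Fin k → Ω) m, T' x (T x m) = m := by
    intro k x m
    show C'.τ 1 _ _ _ (C'.τ 1 _ _ _ m) = m
    rw [C'.τ_comp 1 1 _ _ _ (hT' x) (hT x) (fun u hu => by simpa using hu) m, hτ1]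
  have hTinj : ∀ {k : ℕ} (x : Fin k → Ω), Function.Injective (T x) := fun x a b hab => by
    rw [← hT'T x a, hab, hT'T]
  -- naturality of the transport
  have hTn : ∀ {k l : ℕ} (x : Fin k → Ω) (y : Fin l → Ω) (g : H)
      (h1 : ∀ u ∈ st H x, g * u * g⁻¹ ∈ st H y) (h2 : ∀ u ∈ (st G x).map φ, g * u * g⁻¹ ∈ (st G y).map φ)
      (m : C'.M ((st G y).map φ)), C'.τ g (st H x) (st H y) h1 (T y m) = T x (C'.τ g _ _ h2 m) := by
    intro k l x y g h1 h2 m
    show C'.τ g _ _ _ (C'.τ 1 _ _ _ m) = C'.τ 1 _ _ _ (C'.τ g _ _ _ m)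
    have h3 : ∀ u ∈ st H x, (1 * g) * u * (1 * g)⁻¹ ∈ (st G y).map φ := fun u hu => by
      rw [hst]; simpa using h1 u hu
    rw [C'.τ_comp g 1 _ _ _ h1 (hT y) h3 m]
    have h4 : ∀ u ∈ st H x, (g * 1) * u * (g * 1)⁻¹ ∈ (st G y).map φ := fun u hu => by
      rw [hst]; simpa using h1 u hu
    rw [C'.τ_comp 1 g _ _ _ (hT x) h2 h4 m]
    exact tau_congr C' (by rw [one_mul, mul_one]) _ _ _ _ _
  let F : ∀ {k : ℕ} (_ : ∀ x : Fin k → Ω, C.M (st G x)), ∀ x : Fin k → Ω, C'.M (st H x) :=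
    fun c x => if hx : st G x ∈ V then T x (e _ hx (c x)) else 0
  have F_pos : ∀ {k : ℕ} (c : ∀ x : Fin k → Ω, C.M (st G x)) (x : Fin k → Ω) (hx : st G x ∈ V),
      F c x = T x (e _ hx (c x)) := fun c x hx => dif_pos hx
  have F_neg : ∀ {k : ℕ} (c : ∀ x : Fin k → Ω, C.M (st G x)) (x : Fin k → Ω) (_ : st G x ∉ V),
      F c x = 0 := fun c x hx => dif_neg hx
  have Fdd : ∀ {k : ℕ} (c : ∀ x : Fin k → Ω, C.M (st G x)), (∀ x, st G x ∉ V → c x = 0) →
      ∀ (x : Fin (k + 1) → Ω) (hx : st G x ∈ V), T x (e _ hx (C.dd c x)) = C'.dd (F c) x := by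
    intro k c hc x hx
    unfold Coef.dd
    rw [map_sum, map_sum]
    refine Finset.sum_congr rfl fun i _ => ?_
    rw [map_zsmul, map_zsmul]
    congr 1
    by_cases hy : st G (fun j => x (i.succAbove j)) ∈ V
    · rw [F_pos _ _ hy]
      have h1 : ∀ u ∈ (st G x).map φ, φ 1 * u * (φ 1)⁻¹ ∈ (st G (fun j => x (i.succAbove j))).map φ := by
        intro u hu
        rw [map_one]
        simpa using Subgroup.map_mono (Coef.st_succAbove_le G x i) hu
      have h2 := hnat 1 _ _ (fun u hu => by simpa using Coef.st_succAbove_le G x i hu) h1 hx hy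
        (c (fun j => x (i.succAbove j)))
      have h3 : e _ hx (C.res (Coef.st_succAbove_le G x i) (c (fun j => x (i.succAbove j)))) = _ := h2
      rw [h3]
      have h4 : ∀ u ∈ st H x, φ 1 * u * (φ 1)⁻¹ ∈ st H (fun j => x (i.succAbove j)) := by
        intro u hu
        rw [map_one]
        simpa using Coef.st_succAbove_le H x i hu
      rw [← hTn x _ (φ 1) h4 h1]
      show C'.τ (φ 1) _ _ _ _ = C'.τ 1 _ _ _ _
      exact tau_congr C' (map_one φ) _ _ _ _ _
    · rw [F_neg _ _ hy, hc _ hy, map_zero, map_zero, map_zero, map_zero]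
  have Fcoch : ∀ {k : ℕ} (c : ∀ x : Fin k → Ω, C.M (st G x)), C.IsCoch V c → C'.IsCoch V' (F c) := by
    intro k c hc
    refine ⟨fun g' x => ?_, fun x hx => F_neg c x (fun h => hx ((hmem x).1 h))⟩
    obtain ⟨g, rfl⟩ := hφ g'
    have gen : ∀ (y : Fin k → Ω) (hy : y = g • x) (h1 : ∀ u ∈ st H x, φ g * u * (φ g)⁻¹ ∈ st H y),
        C'.τ (φ g) (st H x) (st H y) h1 (F c y) = F c x := by
      intro y hy h1
      subst hy
      by_cases hx : st G x ∈ V
      · have hgx : st G (g • x) ∈ V := (mem_smul hVi g).2 hx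
        rw [F_pos _ _ hx, F_pos _ _ hgx]
        have h2 : ∀ u ∈ (st G x).map φ, φ g * u * (φ g)⁻¹ ∈ (st G (g • x)).map φ := by
          rintro _ ⟨u, hu, rfl⟩
          exact ⟨g * u * g⁻¹, Coef.conj_st G g x u hu, by simp⟩
        rw [hTn x (g • x) (φ g) h1 h2, ← hnat g _ _ (Coef.conj_st G g x) h2 hx hgx (c (g • x)), hc.equiv g x]
      · rw [F_neg _ _ hx, F_neg _ _ (fun h => hx ((mem_smul hVi g).1 h)), map_zero]
    exact gen _ (hgx g x) _
  have Fcoc : ∀ {k : ℕ} (c : ∀ x : Fin k → Ω, C.M (st G x)), (∀ x, st G x ∉ V → c x = 0) → C.IsCoc V c →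
      C'.IsCoc V' (F c) := by
    intro k c hc hcc x hx
    have hx' := (hmem x).2 hx
    rw [← Fdd c hc x hx', hcc x hx', map_zero, map_zero]
  cases n with
  | zero =>
    intro c hc hcc x
    by_cases hx : st G x ∈ V
    · have := h (F c) (Fcoch c hc) (Fcoc c hc.supp hcc) x
      rw [F_pos _ _ hx] at this
      have h2 : e _ hx (c x) = 0 := (map_eq_zero_iff _ (hTinj x)).1 this
      exact (map_eq_zero_iff _ (e _ hx).injective).1 h2
    · exact hc.supp x hx
  | succ n =>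
    intro c hc hcc
    obtain ⟨b', hb', hcb⟩ := h (F c) (Fcoch c hc) (Fcoc c hc.supp hcc)
    let b : ∀ x : Fin (n + 1) → Ω, C.M (st G x) := fun x =>
      if hx : st G x ∈ V then (e _ hx).symm (T' x (b' x)) else 0
    have b_pos : ∀ x (hx : st G x ∈ V), b x = (e _ hx).symm (T' x (b' x)) := fun x hx => dif_pos hx
    have b_neg : ∀ x, st G x ∉ V → b x = 0 := fun x hx => dif_neg hx
    have hFb : F b = b' := by
      funext x
      by_cases hx : st G x ∈ V
      · rw [F_pos _ _ hx, b_pos x hx, AddEquiv.apply_symm_apply, hTT']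
      · rw [F_neg _ _ hx, hb'.supp x (fun h => hx ((hmem x).2 h))]
    refine ⟨b, ⟨fun g x => ?_, b_neg⟩, fun x hx => ?_⟩
    · by_cases hx : st G x ∈ V
      · have hgx' : st G (g • x) ∈ V := (mem_smul hVi g).2 hx
        apply (e _ hx).injective
        apply hTinj x
        have h2 : ∀ u ∈ (st G x).map φ, φ g * u * (φ g)⁻¹ ∈ (st G (g • x)).map φ := by
          rintro _ ⟨u, hu, rfl⟩
          exact ⟨g * u * g⁻¹, Coef.conj_st G g x u hu, by simp⟩
        have h1 : ∀ u ∈ st H x, φ g * u * (φ g)⁻¹ ∈ st H (g • x) := by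
          intro u hu
          rw [← hst] at hu ⊢
          exact h2 u hu
        rw [hnat g _ _ (Coef.conj_st G g x) h2 hx hgx', ← hTn x (g • x) (φ g) h1 h2]
        rw [← F_pos b _ hgx', ← F_pos b _ hx, hFb]
        have gen : ∀ (y : Fin (n + 1) → Ω) (hy : y = φ g • x) (h1 : ∀ u ∈ st H x, φ g * u * (φ g)⁻¹ ∈ st H y),
            C'.τ (φ g) (st H x) (st H y) h1 (b' y) = b' x := by
          intro y hy h1
          subst hy
          exact hb'.equiv (φ g) x
        exact gen _ (hgx g x).symm h1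
      · rw [b_neg x hx, b_neg _ (fun h => hx ((mem_smul hVi g).1 h)), map_zero]
    · apply (e _ hx).injective
      apply hTinj x
      rw [Fdd b b_neg x hx, hFb, ← hcb x ((hmem x).1 hx), F_pos _ _ hx]

end

end Cfsg.Agent.H234.Lim
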